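import Groth.Prelude.Def_VecGrp
import Groth.Prelude.Def_HopfRep
import Mathlib.RingTheory.Bialgebra.Convolution
import Mathlib.AlgebraicGeometry.Group.Affine
import Mathlib.LinearAlgebra.GeneralLinearGroup.Basic

/-!
# Comodules and modules over an affine group scheme
-/

set_option autoImplicit false
universe u

open CategoryTheory AlgebraicGeometry TensorProduct MonObj WithConv VecGrp

noncomputable section

namespace GrothLib.GModComod14

variable {R : Type u} [CommRing R] {A : Type u} [CommRing A] [HopfAlgebra R A]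
  {E : Type u} [AddCommGroup E] [Module R E]

variable (R A) in
/-- The affine group scheme of a Hopf algebra. -/
abbrev G : Over (Spec (CommRingCat.of R)) := (Spec (CommRingCat.of A)).asOver (Spec (CommRingCat.of R))

/-- The algebra map of a point. -/
def alg {B : Type u} [CommRing B] [Algebra R B] (g : pt R B ⟶ G R A) : A →ₐ[R] B :=
  (Spec.mapMulEquiv.symm g).ofConv

/-- The point of an algebra map. -/
def point {B : Type u} [CommRing B] [Algebra R B] (f : A →ₐ[R] B) : pt R B ⟶ G R A :=
  Spec.mapMulEquiv (toConv f)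

theorem alg_point {B : Type u} [CommRing B] [Algebra R B] (f : A →ₐ[R] B) : alg (point f) = f :=
  congrArg WithConv.ofConv (Spec.mapMulEquiv.symm_apply_apply (toConv f))

theorem point_eq_ptMap {B : Type u} [CommRing B] [Algebra R B] (f : A →ₐ[R] B) : point f = ptMap f :=
  Over.OverMorphism.ext rfl

theorem point_alg {B : Type u} [CommRing B] [Algebra R B] (g : pt R B ⟶ G R A) : point (alg g) = g :=
  Spec.mapMulEquiv.apply_symm_apply g

theorem point_comp {B B' : Type u} [CommRing B] [Algebra R B] [CommRing B'] [Algebra R B']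
    (φ : B →ₐ[R] B') (f : A →ₐ[R] B) : ptMap φ ≫ point f = point (φ.comp f) := by
  rw [point_eq_ptMap, point_eq_ptMap]
  refine Over.OverMorphism.ext ?_
  show Spec.map _ ≫ Spec.map _ = Spec.map _
  rw [LieS.specMap_comp]
  rfl

theorem alg_comp {B B' : Type u} [CommRing B] [Algebra R B] [CommRing B'] [Algebra R B']
    (φ : B →ₐ[R] B') (g : pt R B ⟶ G R A) : alg (ptMap φ ≫ g) = φ.comp (alg g) := by
  conv_lhs => rw [← point_alg g, point_comp, alg_point]

theorem alg_mul {B : Type u} [CommRing B] [Algebra R B] (g h : pt R B ⟶ G R A) :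
    alg (g * h) = (toConv (alg g) * toConv (alg h)).ofConv :=
  congrArg WithConv.ofConv (map_mul (Spec.mapMulEquiv (R := R) (S := A) (T := B)).symm g h)

theorem alg_one {B : Type u} [CommRing B] [Algebra R B] :
    alg (1 : pt R B ⟶ G R A) = (1 : WithConv (A →ₐ[R] B)).ofConv :=
  congrArg WithConv.ofConv (map_one (Spec.mapMulEquiv (R := R) (S := A) (T := B)).symm)

theorem point_mul {B : Type u} [CommRing B] [Algebra R B] (f h : A →ₐ[R] B) :
    point f * point h = point (toConv f * toConv h).ofConv :=
  (map_mul (Spec.mapMulEquiv (R := R) (S := A) (T := B)) (toConv f) (toConv h)).symm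

theorem point_one {B : Type u} [CommRing B] [Algebra R B] :
    point (1 : WithConv (A →ₐ[R] B)).ofConv = 1 :=
  map_one (Spec.mapMulEquiv (R := R) (S := A) (T := B))

variable (δ : E →ₗ[R] E ⊗[R] A)

/-- The action of an algebra map on `1 ⊗ x`. -/
def T {B : Type u} [CommRing B] [Algebra R B] (f : A →ₐ[R] B) : E →ₗ[R] B ⊗[R] E :=
  (TensorProduct.comm R E B).toLinearMap ∘ₗ f.toLinearMap.lTensor E ∘ₗ δ

theorem T_apply {B : Type u} [CommRing B] [Algebra R B] (f : A →ₐ[R] B) (x : E) :
    T δ f x = TensorProduct.comm R E B (f.toLinearMap.lTensor E (δ x)) := rfl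

theorem Wmap_T {B B' : Type u} [CommRing B] [Algebra R B] [CommRing B'] [Algebra R B']
    (φ : B →ₐ[R] B') (f : A →ₐ[R] B) (x : E) : Wmap φ (T δ f x) = T δ (φ.comp f) x := by
  rw [T_apply, T_apply]
  induction δ x using TensorProduct.induction_on with
  | zero => simp
  | tmul e a => simp
  | add a b ha hb => simp only [map_add, ha, hb]

theorem liftBaseChange_T {B : Type u} [CommRing B] [Algebra R B] (f h : A →ₐ[R] B) (z : E ⊗[R] A) :
    (T δ f).liftBaseChange B (TensorProduct.comm R E B (h.toLinearMap.lTensor E z)) =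
      TensorProduct.comm R E B ((LinearMap.mul' R B ∘ₗ TensorProduct.map f.toLinearMap h.toLinearMap).lTensor E
        (TensorProduct.assoc R E A A (δ.rTensor A z))) := by
  induction z using TensorProduct.induction_on with
  | zero => simp
  | add a b ha hb => simp only [map_add, ha, hb]
  | tmul x a =>
    rw [LinearMap.lTensor_tmul, TensorProduct.comm_tmul, LinearMap.liftBaseChange_tmul, LinearMap.rTensor_tmul,
      T_apply]
    induction δ x using TensorProduct.induction_on with
    | zero => simp
    | tmul e b => simp [smul_tmul', mul_comm]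
    | add p q hp hq => simp only [map_add, add_tmul, smul_add, hp, hq]

theorem convMul_toLinearMap {B : Type u} [CommRing B] [Algebra R B] (f h : A →ₐ[R] B) :
    (toConv f * toConv h).ofConv.toLinearMap =
      (LinearMap.mul' R B ∘ₗ TensorProduct.map f.toLinearMap h.toLinearMap) ∘ₗ CoalgebraStruct.comul := by
  refine LinearMap.ext fun a => ?_
  show (toConv f * toConv h) a = _
  rw [AlgHom.convMul_apply, LinearMap.comp_apply]
  induction CoalgebraStruct.comul (R := R) a using TensorProduct.induction_on with
  | zero => simp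
  | tmul p q => simp
  | add p q hp hq => simp only [map_add, hp, hq]

variable (hco : (TensorProduct.assoc R E A A).toLinearMap ∘ₗ δ.rTensor A ∘ₗ δ =
      (CoalgebraStruct.comul (R := R) (A := A)).lTensor E ∘ₗ δ)
  (hcu : (CoalgebraStruct.counit (R := R) (A := A)).lTensor E ∘ₗ δ = (TensorProduct.mk R E R).flip 1)

include hco in
theorem T_mul {B : Type u} [CommRing B] [Algebra R B] (f h : A →ₐ[R] B) (x : E) :
    (T δ f).liftBaseChange B (T δ h x) = T δ (toConv f * toConv h).ofConv x := by
  have := LinearMap.congr_fun hco x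
  simp only [LinearMap.comp_apply, LinearEquiv.coe_coe] at this
  rw [T_apply δ h, liftBaseChange_T, T_apply, convMul_toLinearMap, this]
  simp only [LinearMap.lTensor_comp, LinearMap.comp_apply]

include hcu in
theorem T_one {B : Type u} [CommRing B] [Algebra R B] (x : E) :
    T δ (1 : WithConv (A →ₐ[R] B)).ofConv x = (1 : B) ⊗ₜ x := by
  have h : (1 : WithConv (A →ₐ[R] B)).ofConv.toLinearMap =
      (Algebra.linearMap R B) ∘ₗ CoalgebraStruct.counit := LinearMap.ext fun a => rfl
  rw [T_apply, h, LinearMap.lTensor_comp, LinearMap.comp_apply]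
  have := LinearMap.congr_fun hcu x
  simp only [LinearMap.comp_apply, LinearMap.flip_apply, TensorProduct.mk_apply] at this
  rw [this]
  simp

/-- The endomorphisms attached to the points. -/
def endHom (B : Type u) [CommRing B] [Algebra R B] : (pt R B ⟶ G R A) →* Module.End B (W R E B) where
  toFun g := (T δ (alg g)).liftBaseChange B
  map_one' := by
    refine TensorProduct.AlgebraTensorModule.ext fun b x => ?_
    rw [LinearMap.liftBaseChange_tmul, alg_one, T_one δ hcu, Module.End.one_apply, smul_tmul', smul_eq_mul, _root_.mul_one]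
  map_mul' g h := by
    refine TensorProduct.AlgebraTensorModule.ext fun b x => ?_
    rw [LinearMap.liftBaseChange_tmul, Module.End.mul_apply, LinearMap.liftBaseChange_tmul, map_smul,
      T_mul δ hco, alg_mul]

include hco hcu in
/-- The module structure of a comodule. -/
theorem exists_gmod : ∃ m : GMod (G R A) E, ∀ (B : Type u) [CommRing B] [Algebra R B] (g : pt R B ⟶ G R A) (x : E),
    m.ρ B g ((1 : B) ⊗ₜ[R] x) = T δ (alg g) x := by
  refine ⟨
    { ρ := fun B _ _ =>
        ((LinearMap.GeneralLinearGroup.generalLinearEquiv B (W R E B)).toMonoidHom).comp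
          (endHom δ hco hcu B).toHomUnits
      naturality := ?_ }, fun B _ _ g x => ?_⟩
  · intro B B' _ _ _ _ φ g z
    show Wmap φ ((T δ (alg g)).liftBaseChange B z) = (T δ (alg (ptMap φ ≫ g))).liftBaseChange B' (Wmap φ z)
    induction z using TensorProduct.induction_on with
    | zero => simp
    | add a b ha hb => simp only [map_add, ha, hb]
    | tmul b x =>
      rw [Wmap_tmul, LinearMap.liftBaseChange_tmul, LinearMap.liftBaseChange_tmul, Wmap_smul, Wmap_T, alg_comp]
  · show (T δ (alg g)).liftBaseChange B ((1 : B) ⊗ₜ[R] x) = _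
    rw [LinearMap.liftBaseChange_tmul, one_smul]

theorem gmod_ext {Γ : Over (Spec (CommRingCat.of R))} [GrpObj Γ] {m m' : GMod Γ E}
    (h : ∀ (B : Type u) [CommRing B] [Algebra R B] (g : pt R B ⟶ Γ) (x : E),
      m.ρ B g ((1 : B) ⊗ₜ[R] x) = m'.ρ B g ((1 : B) ⊗ₜ[R] x)) : m = m' := by
  have hρ : m.ρ = m'.ρ := by
    funext B _ _
    refine MonoidHom.ext fun g => LinearEquiv.toLinearMap_injective ?_
    refine TensorProduct.AlgebraTensorModule.ext fun b x => ?_
    rw [show b ⊗ₜ[R] x = b • ((1 : B) ⊗ₜ[R] x) by rw [smul_tmul', smul_eq_mul, _root_.mul_one]]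
    simp only [map_smul, LinearEquiv.coe_coe, h]
  cases m
  cases m'
  cases hρ
  rfl

variable (m : GMod (G R A) E)

/-- The coaction of a module structure. -/
def coact : E →ₗ[R] E ⊗[R] A :=
  (TensorProduct.comm R A E).toLinearMap ∘ₗ
    (((m.ρ A (point (AlgHom.id R A))).toLinearMap.restrictScalars R) ∘ₗ TensorProduct.mk R A E 1)

theorem ρ_eq {B : Type u} [CommRing B] [Algebra R B] (g : pt R B ⟶ G R A) (x : E) :
    m.ρ B g ((1 : B) ⊗ₜ[R] x) = T (coact m) (alg g) x := by
  have h := m.naturality (alg g) (point (AlgHom.id R A)) ((1 : A) ⊗ₜ x)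
  rw [point_comp, AlgHom.comp_id, point_alg, Wmap_tmul, map_one] at h
  rw [← h, T_apply, coact]
  simp only [LinearMap.comp_apply, TensorProduct.mk_apply, LinearEquiv.coe_coe, LinearMap.coe_restrictScalars]
  induction (m.ρ A (point (AlgHom.id R A))) ((1 : A) ⊗ₜ x) using TensorProduct.induction_on with
  | zero => simp
  | tmul a e => simp
  | add a b ha hb => simp only [map_add, ha, hb]

theorem T_injective {δ δ' : E →ₗ[R] E ⊗[R] A} (h : ∀ x, T δ (AlgHom.id R A) x = T δ' (AlgHom.id R A) x) : δ = δ' := by
  refine LinearMap.ext fun x => ?_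
  have h1 := (TensorProduct.comm R E A).injective (h x)
  simpa using h1

theorem coact_coassoc : (TensorProduct.assoc R E A A).toLinearMap ∘ₗ (coact m).rTensor A ∘ₗ coact m =
    (CoalgebraStruct.comul (R := R) (A := A)).lTensor E ∘ₗ coact m := by
  let f : A →ₐ[R] A ⊗[R] A := Algebra.TensorProduct.includeLeft
  let h : A →ₐ[R] A ⊗[R] A := Algebra.TensorProduct.includeRight
  have hid : LinearMap.mul' R (A ⊗[R] A) ∘ₗ TensorProduct.map f.toLinearMap h.toLinearMap = LinearMap.id :=
    TensorProduct.ext' fun a b => by simp [f, h]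
  refine LinearMap.ext fun x => (TensorProduct.comm R E (A ⊗[R] A)).injective ?_
  have hz := ρ_eq m (point f * point h) x
  have hlift : ∀ z, m.ρ (A ⊗[R] A) (point f) z = (T (coact m) f).liftBaseChange _ z := by
    intro z
    induction z using TensorProduct.induction_on with
    | zero => simp
    | add a b ha hb => rw [map_add, map_add, ha, hb]
    | tmul b y =>
      rw [LinearMap.liftBaseChange_tmul, show b ⊗ₜ[R] y = b • ((1 : A ⊗[R] A) ⊗ₜ[R] y) by
        rw [smul_tmul', smul_eq_mul, _root_.mul_one], map_smul, ρ_eq, alg_point]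
  rw [map_mul, LinearEquiv.mul_apply, ρ_eq, hlift, alg_point, point_mul, alg_point, T_apply _ h, liftBaseChange_T,
    T_apply, convMul_toLinearMap, hid] at hz
  simp only [LinearMap.lTensor_id, LinearMap.id_comp, LinearMap.id_coe, id_eq] at hz
  simpa [LinearMap.comp_apply] using hz

theorem coact_counit : (CoalgebraStruct.counit (R := R) (A := A)).lTensor E ∘ₗ coact m =
    (TensorProduct.mk R E R).flip 1 := by
  refine LinearMap.ext fun x => (TensorProduct.comm R E R).injective ?_
  have hz := ρ_eq m (1 : pt R R ⟶ G R A) x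
  rw [map_one, alg_one, T_apply] at hz
  rw [show (1 : WithConv (A →ₐ[R] R)).ofConv.toLinearMap = CoalgebraStruct.counit from
    LinearMap.ext fun a => rfl] at hz
  simpa using hz.symm

end GrothLib.GModComod14
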